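import Mathlib
import Cfsg.Agent.Lib.Helper73.TC.Defs

set_option autoImplicit false

/-! Project TC (S2929), package GEN3: a group generated by 3-cycles contains every even
permutation supported on one of its nontrivial orbits. -/

namespace Cfsg.Agent.Lib.Helper72.TC

open Equiv Cfsg.Agent.Lib.Helper73.TC

variable {α : Type} [DecidableEq α]

/-- The 3-cycle `a → b → c → a`. -/
def tc (a b c : α) : Perm α := swap a c * swap a b

theorem tc_apply_a {a b c : α} (hab : a ≠ b) (hbc : b ≠ c) : tc a b c a = b := by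
  simp [tc, swap_apply_of_ne_of_ne hab.symm hbc]

theorem tc_apply_b {a b c : α} : tc a b c b = c := by
  simp [tc]

theorem tc_apply_c {a b c : α} (hac : a ≠ c) (hbc : b ≠ c) : tc a b c c = a := by
  simp [tc, swap_apply_of_ne_of_ne hac.symm hbc.symm]

theorem tc_apply_of_ne {a b c x : α} (hxa : x ≠ a) (hxb : x ≠ b) (hxc : x ≠ c) :
    tc a b c x = x := by
  simp [tc, swap_apply_of_ne_of_ne hxa hxb, swap_apply_of_ne_of_ne hxa hxc]

theorem tc_conj (σ : Perm α) (a b c : α) : σ * tc a b c * σ⁻¹ = tc (σ a) (σ b) (σ c) := by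
  unfold tc
  have h1 : ∀ x y : α, σ * swap x y * σ⁻¹ = swap (σ x) (σ y) := by
    intro x y
    rw [Equiv.mul_swap_eq_swap_mul, mul_assoc, mul_inv_cancel, mul_one]
  rw [← h1, ← h1]
  group

theorem tc_rot {a b c : α} (hab : a ≠ b) (hac : a ≠ c) (hbc : b ≠ c) : tc a b c = tc b c a := by
  ext x
  by_cases hxa : x = a
  · rw [hxa, tc_apply_a hab hbc, tc_apply_c hab.symm hac.symm]
  by_cases hxb : x = b
  · rw [hxb, tc_apply_b, tc_apply_a hbc hac.symm]
  by_cases hxc : x = c
  · rw [hxc, tc_apply_c hac hbc, tc_apply_b]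
  rw [tc_apply_of_ne hxa hxb hxc, tc_apply_of_ne hxb hxc hxa]

theorem tc_inv {a b c : α} (hab : a ≠ b) (hac : a ≠ c) (hbc : b ≠ c) :
    (tc a b c)⁻¹ = tc a c b := by
  rw [inv_eq_iff_mul_eq_one]
  ext x
  rw [Perm.mul_apply, Perm.one_apply]
  by_cases hxa : x = a
  · rw [hxa, tc_apply_a hac hbc.symm, tc_apply_c hac hbc]
  by_cases hxb : x = b
  · rw [hxb, tc_apply_c hab hbc.symm, tc_apply_a hab hbc]
  by_cases hxc : x = c
  · rw [hxc, tc_apply_b, tc_apply_b]
  rw [tc_apply_of_ne hxa hxc hxb, tc_apply_of_ne hxa hxb hxc]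

variable [Fintype α]

theorem tc_isThreeCycle {a b c : α} (hab : a ≠ b) (hac : a ≠ c) (hbc : b ≠ c) :
    (tc a b c).IsThreeCycle :=
  Perm.isThreeCycle_swap_mul_swap_same hac hab hbc.symm

/-- A 3-cycle moving `u` is `tc u (t u) (t (t u))`. -/
theorem exists_tc_of_apply_ne {t : Perm α} (ht : t.IsThreeCycle) {u : α} (hu : t u ≠ u) :
    u ≠ t u ∧ u ≠ t (t u) ∧ t u ≠ t (t u) ∧ t = tc u (t u) (t (t u)) := by
  have h3 : t (t (t u)) = u := by
    have := ht.orderOf
    have h : t ^ 3 = 1 := by rw [← this]; exact pow_orderOf_eq_one t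
    have := congrArg (fun s : Perm α => s u) h
    simpa [pow_succ, Perm.mul_apply] using this
  have h1 : u ≠ t u := fun h => hu h.symm
  have h3' : t u ≠ t (t u) := fun h => h1 (t.injective h)
  have h2 : u ≠ t (t u) := by
    intro h
    have h4 : t u = u := by
      have := h3
      rw [← h] at this
      exact this
    exact hu h4
  refine ⟨h1, h2, h3', ?_⟩
  have hsupp : t.support = {u, t u, t (t u)} := by
    symm
    apply Finset.eq_of_subset_of_card_le
    · intro y hy
      simp only [Finset.mem_insert, Finset.mem_singleton] at hy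
      rw [Perm.mem_support]
      rcases hy with rfl | rfl | rfl
      · exact hu
      · exact fun h => h3' h.symm
      · rw [h3]; exact h2
    · rw [ht.card_support, Finset.card_insert_of_notMem, Finset.card_insert_of_notMem,
        Finset.card_singleton]
      · simpa using h3'
      · simp [h1, h2]
  ext x
  by_cases hxa : x = u
  · rw [hxa, tc_apply_a h1 h3']
  by_cases hxb : x = t u
  · rw [hxb, tc_apply_b]
  by_cases hxc : x = t (t u)
  · rw [hxc, tc_apply_c h2 h3', h3]
  rw [tc_apply_of_ne hxa hxb hxc]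
  have : x ∉ t.support := by
    rw [hsupp]
    simp [hxa, hxb, hxc]
  exact Perm.notMem_support.mp this

theorem exists_tc {t : Perm α} (ht : t.IsThreeCycle) :
    ∃ a b c : α, a ≠ b ∧ a ≠ c ∧ b ≠ c ∧ t = tc a b c := by
  have hne : t.support.Nonempty := by
    rw [← Finset.card_pos, ht.card_support]
    norm_num
  obtain ⟨u, hu⟩ := hne
  obtain ⟨h1, h2, h3, h4⟩ := exists_tc_of_apply_ne ht (Perm.mem_support.mp hu)
  exact ⟨u, t u, t (t u), h1, h2, h3, h4⟩

section Full

variable (T : Subgroup (Perm α))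

/-- All 3-cycles on `R` lie in `T`. -/
def Full (R : Finset α) : Prop :=
  ∀ a ∈ R, ∀ b ∈ R, ∀ c ∈ R, a ≠ b → a ≠ c → b ≠ c → tc a b c ∈ T

variable {T}

omit [Fintype α] in
theorem full_insert {R : Finset α} (hR : Full T R) {u v w : α} (hu : u ∈ R) (hv : v ∈ R)
    (huv : u ≠ v) (hw : w ∉ R) (ht : tc u v w ∈ T) : Full T (insert w R) := by
  have hne : ∀ {a : α}, a ∈ R → a ≠ w := fun ha h => hw (h ▸ ha)
  -- the three moves
  have M1 : ∀ a ∈ R, ∀ b ∈ R, ∀ c ∈ R, a ≠ b → a ≠ c → b ≠ c → tc a b w ∈ T → tc b c w ∈ T := by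
    intro a ha b hb c hc hab hac hbc h
    have hσ := hR a ha b hb c hc hab hac hbc
    have := T.mul_mem (T.mul_mem hσ h) (T.inv_mem hσ)
    rw [tc_conj, tc_apply_a hab hbc, tc_apply_b,
      tc_apply_of_ne (hne ha).symm (hne hb).symm (hne hc).symm] at this
    exact this
  have M2 : ∀ a ∈ R, ∀ b ∈ R, ∀ c ∈ R, a ≠ b → a ≠ c → b ≠ c → tc a b w ∈ T → tc c a w ∈ T := by
    intro a ha b hb c hc hab hac hbc h
    have hσ := hR a ha c hc b hb hac hab hbc.symm
    have := T.mul_mem (T.mul_mem hσ h) (T.inv_mem hσ)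
    rw [tc_conj, tc_apply_a hac hbc.symm, tc_apply_c hab hbc.symm,
      tc_apply_of_ne (hne ha).symm (hne hc).symm (hne hb).symm] at this
    exact this
  have M3 : ∀ a ∈ R, ∀ b ∈ R, a ≠ b → tc a b w ∈ T → tc b a w ∈ T := by
    intro a ha b hb hab h
    have := T.inv_mem h
    rw [tc_inv hab (hne ha) (hne hb), tc_rot (hne ha) hab (hne hb).symm,
      tc_rot (hne hb).symm (hne ha).symm hab.symm] at this
    exact this
  have F : ∀ a ∈ R, ∀ b ∈ R, ∀ c ∈ R, a ≠ b → a ≠ c → b ≠ c → tc a b w ∈ T → tc c b w ∈ T := by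
    intro a ha b hb c hc hab hac hbc h
    exact M3 b hb c hc hbc (M1 a ha b hb c hc hab hac hbc h)
  have S : ∀ a ∈ R, ∀ b ∈ R, ∀ c ∈ R, a ≠ b → a ≠ c → b ≠ c → tc a b w ∈ T → tc a c w ∈ T := by
    intro a ha b hb c hc hab hac hbc h
    exact M3 c hc a ha hac.symm (M2 a ha b hb c hc hab hac hbc h)
  have X : ∀ a ∈ R, ∀ b ∈ R, a ≠ b → tc a b w ∈ T := by
    intro a ha b hb hab
    by_cases hau : a = u
    · subst hau
      by_cases hbv : b = v
      · subst hbv; exact ht
      · exact S a ha v hv b hb huv hab (Ne.symm hbv) ht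
    by_cases hav : a = v
    · subst hav
      by_cases hbu : b = u
      · subst hbu; exact M3 b hb a ha huv ht
      · exact M1 u hu a ha b hb huv (Ne.symm hbu) hab ht
    have h1 : tc a v w ∈ T := F u hu v hv a ha huv (Ne.symm hau) (Ne.symm hav) ht
    by_cases hbv : b = v
    · subst hbv; exact h1
    · exact S a ha v hv b hb hav hab (Ne.symm hbv) h1
  intro p hp q hq r hr hpq hpr hqr
  by_cases hpw : p = w
  · have hq' : q ∈ R := (Finset.mem_insert.mp hq).resolve_left (fun h => hpq (hpw.trans h.symm))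
    have hr' : r ∈ R := (Finset.mem_insert.mp hr).resolve_left (fun h => hpr (hpw.trans h.symm))
    rw [tc_rot hpq hpr hqr, hpw]
    exact X q hq' r hr' hqr
  have hp' : p ∈ R := (Finset.mem_insert.mp hp).resolve_left hpw
  by_cases hqw : q = w
  · have hr' : r ∈ R := (Finset.mem_insert.mp hr).resolve_left (fun h => hqr (hqw.trans h.symm))
    rw [tc_rot hpq hpr hqr, tc_rot hqr hpq.symm hpr.symm, hqw]
    exact X r hr' p hp' hpr.symm
  have hq' : q ∈ R := (Finset.mem_insert.mp hq).resolve_left hqw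
  by_cases hrw : r = w
  · rw [hrw]
    exact X p hp' q hq' hpq
  have hr' : r ∈ R := (Finset.mem_insert.mp hr).resolve_left hrw
  exact hR p hp' q hq' r hr' hpq hpr hqr

theorem full_grow {R : Finset α} (hR : Full T R) (h3 : 3 ≤ R.card) {t : Perm α} (htT : t ∈ T)
    (ht : t.IsThreeCycle) {u : α} (hu : u ∈ R) (hw : t u ∉ R) : Full T (insert (t u) R) := by
  have hne : t u ≠ u := fun h => hw (by rw [h]; exact hu)
  obtain ⟨h1, h2, h3', h4⟩ := exists_tc_of_apply_ne ht hne
  set w := t u with hwdef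
  set v := t w with hvdef
  by_cases hv : v ∈ R
  · have : tc u v w ∈ T := by
      have := T.inv_mem htT
      rw [h4, tc_inv h1 h2 h3'] at this
      exact this
    exact full_insert hR hu hv h2 hw this
  · -- pick r, r' in R different from u
    obtain ⟨r, hr, hru⟩ : ∃ r ∈ R, r ≠ u := by
      by_contra hcon
      push Not at hcon
      have : R ⊆ {u} := fun y hy => Finset.mem_singleton.mpr (hcon y hy)
      have := Finset.card_le_card this
      simp at this
      omega
    obtain ⟨r', hr', hr'u, hr'r⟩ : ∃ r' ∈ R, r' ≠ u ∧ r' ≠ r := by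
      by_contra hcon
      push Not at hcon
      have : R ⊆ {u, r} := by
        intro y hy
        by_cases hyu : y = u
        · simp [hyu]
        · simp [hcon y hy hyu]
      have := Finset.card_le_card this
      have h2 : ({u, r} : Finset α).card ≤ 2 := Finset.card_insert_le _ _
      omega
    have hs : tc u r r' ∈ T := hR u hu r hr r' hr' hru.symm hr'u.symm hr'r.symm
    have hrw : r ≠ w := fun h => hw (h ▸ hr)
    have hr'w : r' ≠ w := fun h => hw (h ▸ hr')
    have hrv : r ≠ v := fun h => hv (h ▸ hr)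
    have hr'v : r' ≠ v := fun h => hv (h ▸ hr')
    have key := T.mul_mem (T.mul_mem htT hs) (T.inv_mem htT)
    rw [tc_conj] at key
    have e1 : t r = r := by
      rw [h4]; exact tc_apply_of_ne hru hrw hrv
    have e2 : t r' = r' := by
      rw [h4]; exact tc_apply_of_ne hr'u hr'w hr'v
    rw [e1, e2, ← hwdef, tc_rot hrw.symm hr'w.symm hr'r.symm] at key
    exact full_insert hR hr hr' hr'r.symm hw key

end Full

/-- Even permutations supported on a full set lie in `T`. -/
theorem mem_of_full {T : Subgroup (Perm α)} {R : Finset α} (hR : Full T R) (g : Perm α)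
    (hg : Perm.sign g = 1) (hsupp : ∀ y, g y ≠ y → y ∈ R) : g ∈ T := by
  classical
  have hinv : ∀ y, g y ∈ R ↔ y ∈ R := by
    intro y
    by_cases hy : g y = y
    · rw [hy]
    · have h1 : y ∈ R := hsupp y hy
      have h2 : g y ∈ R := by
        apply hsupp
        intro h
        exact hy (g.injective h)
      exact ⟨fun _ => h1, fun _ => h2⟩
  set g' : Perm {y // y ∈ R} := g.subtypePerm hinv with hg'
  have hsign : Perm.sign g' = 1 := by
    rw [hg']
    convert (Perm.sign_subtypePerm g hinv hsupp).trans hg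
  have hgg : Perm.ofSubtype g' = g := Perm.ofSubtype_subtypePerm hinv hsupp
  have hmem : g' ∈ Subgroup.closure {σ : Perm {y // y ∈ R} | σ.IsThreeCycle} := by
    rw [Perm.closure_three_cycles_eq_alternating]
    exact Perm.mem_alternatingGroup.mpr hsign
  have hmap : (Subgroup.closure {σ : Perm {y // y ∈ R} | σ.IsThreeCycle}).map
      (Perm.ofSubtype : Perm {y // y ∈ R} →* Perm α) ≤ T := by
    rw [MonoidHom.map_closure, Subgroup.closure_le]
    rintro _ ⟨σ, hσ, rfl⟩
    obtain ⟨a, b, c, hab, hac, hbc, rfl⟩ := exists_tc hσ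
    have : Perm.ofSubtype (tc a b c) = tc (a : α) (b : α) (c : α) := by
      unfold tc
      rw [map_mul, Perm.ofSubtype_swap_eq, Perm.ofSubtype_swap_eq]
    rw [SetLike.mem_coe, this]
    exact hR a a.2 b b.2 c c.2 (fun h => hab (Subtype.ext h)) (fun h => hac (Subtype.ext h))
      (fun h => hbc (Subtype.ext h))
  rw [← hgg]
  exact hmap (Subgroup.mem_map_of_mem _ hmem)

theorem lemGenThree : LemGenThree := by
  intro α _ _ S hS x ⟨c₀, hc₀S, hc₀x⟩ g hg hsupp
  classical
  set T := Subgroup.closure S with hT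
  obtain ⟨h1, h2, h3, h4⟩ := exists_tc_of_apply_ne (hS c₀ hc₀S) hc₀x
  set b := c₀ x with hb
  set c := c₀ b with hc
  have hc₀T : c₀ ∈ T := Subgroup.subset_closure hc₀S
  have hc₀T' : tc x b c ∈ T := h4 ▸ hc₀T
  have hc₀inv : tc x c b ∈ T := by
    have := T.inv_mem hc₀T'
    rwa [tc_inv h1 h2 h3] at this
  -- the starting full set
  have hR₀ : Full T {x, b, c} := by
    intro p hp q hq r hr hpq hpr hqr
    simp only [Finset.mem_insert, Finset.mem_singleton] at hp hq hr
    have e1 : tc b c x = tc x b c := (tc_rot h1 h2 h3).symm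
    have e2 : tc c x b = tc x b c := by rw [tc_rot h1 h2 h3, tc_rot h3 h1.symm h2.symm]
    have e3 : tc c b x = tc x c b := (tc_rot h2 h1 h3.symm).symm
    have e4 : tc b x c = tc x c b := by rw [tc_rot h2 h1 h3.symm, tc_rot h3.symm h2.symm h1.symm]
    rcases hp with rfl | rfl | rfl <;> rcases hq with rfl | rfl | rfl <;>
      rcases hr with rfl | rfl | rfl <;>
      first
        | exact absurd rfl hpq
        | exact absurd rfl hpr
        | exact absurd rfl hqr
        | exact hc₀T'
        | exact hc₀inv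
        | exact e1 ▸ hc₀T'
        | exact e2 ▸ hc₀T'
        | exact e3 ▸ hc₀inv
        | exact e4 ▸ hc₀inv
  -- a full set of maximal cardinality
  let F : Finset (Finset α) := Finset.univ.filter (fun R => {x, b, c} ⊆ R ∧ Full T R)
  have hFne : F.Nonempty := ⟨{x, b, c}, by simp [F, hR₀]⟩
  obtain ⟨R, hRF, hRmax⟩ := Finset.exists_max_image F Finset.card hFne
  have hRsub : {x, b, c} ⊆ R := (Finset.mem_filter.mp hRF).2.1
  have hRfull : Full T R := (Finset.mem_filter.mp hRF).2.2
  have hcard3 : 3 ≤ R.card := by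
    have h0 : ({x, b, c} : Finset α).card = 3 := by
      rw [Finset.card_insert_of_notMem, Finset.card_insert_of_notMem, Finset.card_singleton]
      · simpa using h3
      · simp [h1, h2]
    have := Finset.card_le_card hRsub
    omega
  have hxR : x ∈ R := hRsub (by simp)
  -- invariance under 3-cycles of T
  have hinv3 : ∀ t ∈ T, t.IsThreeCycle → ∀ u ∈ R, t u ∈ R := by
    intro t htT ht u hu
    by_contra hw
    have hfull := full_grow hRfull hcard3 htT ht hu hw
    have hmem : insert (t u) R ∈ F := by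
      refine Finset.mem_filter.mpr ⟨Finset.mem_univ _, ?_, hfull⟩
      exact hRsub.trans (Finset.subset_insert _ _)
    have := hRmax _ hmem
    rw [Finset.card_insert_of_notMem hw] at this
    omega
  have hinvT : ∀ t ∈ T, ∀ y, y ∈ R ↔ t y ∈ R := by
    intro t ht
    refine Subgroup.closure_induction (p := fun t _ => ∀ y, y ∈ R ↔ t y ∈ R) ?_ ?_ ?_ ?_ ht
    · intro s hs y
      have hs3 := hS s hs
      have hsT : s ∈ T := Subgroup.subset_closure hs
      refine ⟨fun hy => hinv3 s hsT hs3 y hy, fun hy => ?_⟩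
      have hs3' : (s⁻¹).IsThreeCycle := hs3.inv
      have := hinv3 s⁻¹ (T.inv_mem hsT) hs3' (s y) hy
      simpa using this
    · intro y; simp
    · intro s t _ _ hs ht y
      rw [Perm.mul_apply, ← hs, ← ht]
    · intro s _ hs y
      rw [hs (s⁻¹ y)]
      simp
  refine mem_of_full hRfull g hg ?_
  intro y hy
  obtain ⟨t, ht, rfl⟩ := hsupp y hy
  exact (hinvT t ht x).mp hxR

end Cfsg.Agent.Lib.Helper72.TC
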