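import Mathlib
import Cfsg.Agent.Lib.Helper73.TC.Defs

set_option autoImplicit false

/-! Project TC (S2929), package ORB: the orbits of the group generated by the 3-cycles of
`H`. -/

namespace Cfsg.Agent.Lib.Helper72.TC

open Equiv Cfsg.Agent.Lib.Helper73.TC

theorem lemOrb_of (hG : LemGenThree) : LemOrb := by
  intro α _ _ H x O ⟨c, hcH, hc3, hcx⟩ hO
  have hcT : c ∈ threeGen H := Subgroup.subset_closure ⟨hcH, hc3⟩
  have hle : threeGen H ≤ H := by
    unfold threeGen
    rw [Subgroup.closure_le]
    intro s hs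
    exact hs.1
  refine ⟨?_, ?_, ?_, hle, ?_⟩
  · -- three points x, c x, c (c x)
    have h1 : x ∈ O := (hO x).mpr ⟨1, Subgroup.one_mem _, rfl⟩
    have h2 : c x ∈ O := (hO (c x)).mpr ⟨c, hcT, rfl⟩
    have h3 : c (c x) ∈ O := (hO (c (c x))).mpr ⟨c * c, Subgroup.mul_mem _ hcT hcT, rfl⟩
    have hc3' : c (c (c x)) = x := by
      have := hc3.orderOf
      have h : c ^ 3 = 1 := by rw [← this]; exact pow_orderOf_eq_one c
      have := congrArg (fun s : Perm α => s x) h
      simpa [pow_succ, Perm.mul_apply] using this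
    have d1 : x ≠ c x := fun h => hcx h.symm
    have d2 : c x ≠ c (c x) := fun h => d1 (c.injective h)
    have d3 : x ≠ c (c x) := by
      intro h
      have h4 : c x = x := by
        have := hc3'
        rw [← h] at this
        exact this
      exact hcx h4
    have hsub : ({x, c x, c (c x)} : Finset α) ⊆ O := by
      intro y hy
      simp only [Finset.mem_insert, Finset.mem_singleton] at hy
      rcases hy with rfl | rfl | rfl
      · exact h1
      · exact h2
      · exact h3
    have hcard : ({x, c x, c (c x)} : Finset α).card = 3 := by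
      rw [Finset.card_insert_of_notMem, Finset.card_insert_of_notMem, Finset.card_singleton]
      · simpa using d2
      · simp [d1, d3]
    have := Finset.card_le_card hsub
    omega
  · intro g hg
    have hg1 : Perm.sign g = 1 := Perm.mem_alternatingGroup.mp (Subgroup.mem_inf.mp hg).1
    have hg2 := (Subgroup.mem_inf.mp hg).2
    refine hG α {c : Perm α | c ∈ H ∧ c.IsThreeCycle} (fun c hc => hc.2) x
      ⟨c, ⟨hcH, hc3⟩, hcx⟩ g hg1 ?_
    intro y hy
    have hyO : y ∈ O := by
      by_contra hyO
      apply hy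
      have := (mem_fixingSubgroup_iff (Perm α)).mp hg2 y (by simpa using hyO)
      simpa using this
    exact (hO y).mp hyO
  · intro t ht y
    constructor
    · intro h
      obtain ⟨s, hs, hsx⟩ := (hO (t y)).mp h
      refine (hO y).mpr ⟨t⁻¹ * s, Subgroup.mul_mem _ (Subgroup.inv_mem _ ht) hs, ?_⟩
      rw [Perm.mul_apply, hsx]
      simp
    · intro h
      obtain ⟨s, hs, hsx⟩ := (hO y).mp h
      refine (hO (t y)).mpr ⟨t * s, Subgroup.mul_mem _ ht hs, ?_⟩
      rw [Perm.mul_apply, hsx]
  · intro h hh t ht
    refine Subgroup.closure_induction (p := fun t _ => h * t * h⁻¹ ∈ threeGen H) ?_ ?_ ?_ ?_ ht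
    · intro s hs
      refine Subgroup.subset_closure ⟨?_, ?_⟩
      · exact H.mul_mem (H.mul_mem hh hs.1) (H.inv_mem hh)
      · have h3 : s.IsThreeCycle := hs.2
        unfold Perm.IsThreeCycle at h3 ⊢
        rw [Perm.cycleType_conj]
        exact h3
    · simp
    · intro a b _ _ ha hb
      have : h * (a * b) * h⁻¹ = (h * a * h⁻¹) * (h * b * h⁻¹) := by group
      rw [this]
      exact Subgroup.mul_mem _ ha hb
    · intro a _ ha
      have : h * a⁻¹ * h⁻¹ = (h * a * h⁻¹)⁻¹ := by group
      rw [this]
      exact Subgroup.inv_mem _ ha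

end Cfsg.Agent.Lib.Helper72.TC
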